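import Cfsg.Agent.Lib.Cert.Fi23s.S2D

set_option autoImplicit false
set_option maxRecDepth 100000

namespace Cfsg.Agent.Ct.Fi23s.S2

open Cfsg.Agent.PC

theorem rb163 : Nat.beq (rng f2 (nat_lit 163) (nat_lit 25)) (nat_lit 0) = true := by decide +kernel
theorem rb188 : Nat.beq (rng f2 (nat_lit 188) (nat_lit 2)) (nat_lit 0) = true := by decide +kernel
theorem rc0 : Nat.beq (rng f3 (nat_lit 0) (nat_lit 16)) (nat_lit 0) = true := by decide +kernel
theorem rc16 : Nat.beq (rng f3 (nat_lit 16) (nat_lit 2)) (nat_lit 0) = true := by decide +kernel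
theorem rd0 : Nat.beq (rng f4 (nat_lit 0) (nat_lit 18)) (nat_lit 0) = true := by decide +kernel

end Cfsg.Agent.Ct.Fi23s.S2
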