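import Cfsg.Agent.Lib.Cert.Fi23s.S2R0
import Cfsg.Agent.Lib.Cert.Fi23s.S2R1

set_option autoImplicit false
set_option maxRecDepth 100000

namespace Cfsg.Agent.Ct.Fi23s.S2

open Cfsg.Agent.PC

open Cfsg.Agent.Fi Cfsg.Agent.Ct
theorem h1 : ∀ i < 222, f1 i = 0 := by
  have h := zero_lt_zero f1
  have h := zero_lt_add (a := (nat_lit 0)) (n := (nat_lit 136)) (b := (nat_lit 136)) h ra0 rfl
  have h := zero_lt_add (a := (nat_lit 136)) (n := (nat_lit 86)) (b := (nat_lit 222)) h ra136 rfl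
  exact h
theorem h2 : ∀ i < 190, f2 i = 0 := by
  have h := zero_lt_zero f2
  have h := zero_lt_add (a := (nat_lit 0)) (n := (nat_lit 43)) (b := (nat_lit 43)) h rb0 rfl
  have h := zero_lt_add (a := (nat_lit 43)) (n := (nat_lit 42)) (b := (nat_lit 85)) h rb43 rfl
  have h := zero_lt_add (a := (nat_lit 85)) (n := (nat_lit 41)) (b := (nat_lit 126)) h rb85 rfl
  have h := zero_lt_add (a := (nat_lit 126)) (n := (nat_lit 37)) (b := (nat_lit 163)) h rb126 rfl
  have h := zero_lt_add (a := (nat_lit 163)) (n := (nat_lit 25)) (b := (nat_lit 188)) h rb163 rfl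
  have h := zero_lt_add (a := (nat_lit 188)) (n := (nat_lit 2)) (b := (nat_lit 190)) h rb188 rfl
  exact h
theorem h3 : ∀ i < 18, f3 i = 0 := by
  have h := zero_lt_zero f3
  have h := zero_lt_add (a := (nat_lit 0)) (n := (nat_lit 16)) (b := (nat_lit 16)) h rc0 rfl
  have h := zero_lt_add (a := (nat_lit 16)) (n := (nat_lit 2)) (b := (nat_lit 18)) h rc16 rfl
  exact h
theorem h4 : ∀ i < 18, f4 i = 0 := by
  have h := zero_lt_zero f4
  have h := zero_lt_add (a := (nat_lit 0)) (n := (nat_lit 18)) (b := (nat_lit 18)) h rd0 rfl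
  exact h
theorem nok : NoK (Cfsg.Spor.Fi23) (2 ^ (0 + 1)) := fun _ _ _ _ h =>
  (md.rv (I := I) (K := 222) rfl ⟨rfl, by decide⟩ (upTo_beq (by decide +kernel)) h1).core h (by norm_num)
    (md.syl (by norm_num) rfl (by decide) h4) (by rw [P23.card]; decide) (n := 2) (s := 0) (e := e) (L := Le) (C := C)
    ⟨rfl, by decide, rfl, by decide, by decide, rfl, by decide⟩ h2 (upTo_beq (by decide +kernel)) (upTo_beq (by decide +kernel)) h3

end Cfsg.Agent.Ct.Fi23s.S2
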