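import Cfsg.Agent.Lib.Cert.Fi23s.S2D

set_option autoImplicit false
set_option maxRecDepth 100000

namespace Cfsg.Agent.Ct.Fi23s.S2

open Cfsg.Agent.PC

theorem ra0 : Nat.beq (rng f1 (nat_lit 0) (nat_lit 136)) (nat_lit 0) = true := by decide +kernel
theorem ra136 : Nat.beq (rng f1 (nat_lit 136) (nat_lit 86)) (nat_lit 0) = true := by decide +kernel
theorem rb0 : Nat.beq (rng f2 (nat_lit 0) (nat_lit 43)) (nat_lit 0) = true := by decide +kernel
theorem rb43 : Nat.beq (rng f2 (nat_lit 43) (nat_lit 42)) (nat_lit 0) = true := by decide +kernel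
theorem rb85 : Nat.beq (rng f2 (nat_lit 85) (nat_lit 41)) (nat_lit 0) = true := by decide +kernel
theorem rb126 : Nat.beq (rng f2 (nat_lit 126) (nat_lit 37)) (nat_lit 0) = true := by decide +kernel

end Cfsg.Agent.Ct.Fi23s.S2
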